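import Groth.Agent.PnHodge.Algebra
import Groth.Agent.KTheory.ExtFiltSheaf
import Groth.Agent.LocFree.ExtFunctor
import Groth.Agent.OmegaSheaf.ExactLocal
import Groth.Agent.LocFree.AffineHom

/-!
# The sequences `0 → ⋀ᵖ⁺¹ A → ⋀ᵖ⁺¹ B → ⋀ᵖ A → 0` of an extension of `O` by `A`
-/

set_option autoImplicit false
universe u

open CategoryTheory CategoryTheory.Limits AlgebraicGeometry TopologicalSpace
open Groth.PicAux Groth.LocFree Groth.DR

namespace Groth.PnHodge

open Groth.QCohMod (appₗ)

variable {X : Scheme.{u}} {A B : X.Modules}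

/-- A morphism to the structure module, as linear forms on sections. -/
noncomputable def form (g : B ⟶ Coh.structureModule X) (U : X.Opens) :
    Γ(B, U) →ₗ[Γ(X, U)] Γ(X, U) where
  toFun m := toFun (g.app U m)
  map_add' a b := map_add (g.app U).hom a b
  map_smul' r a := (congrArg toFun (g.app_smul r a)).trans (toFun_smul r _)

theorem resX_form (g : B ⟶ Coh.structureModule X) {U V : X.Opens} (h : V ≤ U) (m : Γ(B, U)) :
    resX X h (form g U m) = form g V (res B h m) :=
  (toFun_res h (g.app U m)).symm.trans (congrArg toFun (app_res g h m).symm)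

theorem extRes_wedgeL {U V : X.Opens} (h : V ≤ U) (a : Γ(B, U)) (p : ℕ) (x : ESec p B U) :
    extRes (p + 1) B h (wedgeL a p x) = wedgeL (res B h a) p (extRes p B h x) := by
  induction x using esec_induction with
  | wedge e =>
    simp only [ewedge, wedgeL_ιMulti]
    change extRes (p + 1) B h (ewedge (p + 1) B (Fin.cons a e)) = _
    rw [extRes_ewedge]
    change ewedge (p + 1) B _ = wedgeL (res B h a) p (extRes p B h (ewedge p B e))
    rw [extRes_ewedge, ewedge, ewedge, wedgeL_ιMulti]
    congr 1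
    funext i
    exact Fin.cases rfl (fun _ => rfl) i
  | zero => simp
  | add x y hx hy => simp only [map_add, hx, hy]
  | smul r x hx => simp only [map_smulₛₗ, map_smul, hx, RingHom.id_apply]

theorem extRes_contr (g : B ⟶ Coh.structureModule X) {U V : X.Opens} (h : V ≤ U) :
    ∀ (p : ℕ) (x : ESec (p + 1) B U),
      extRes p B h (contr (form g U) p x) = contr (form g V) p (extRes (p + 1) B h x) := by
  intro p
  induction p with
  | zero =>
    intro x
    induction x using esec_induction with
    | wedge e =>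
      rw [extRes_ewedge, ewedge, ewedge, contr_ιMulti_one, contr_ιMulti_one, map_smulₛₗ, resX_form]
      change _ • extRes 0 B h (ewedge 0 B _) = _
      rw [extRes_ewedge]
      congr 2
      funext i
      exact i.elim0
    | zero => simp
    | add x y hx hy => simp only [map_add, hx, hy]
    | smul r x hx => simp only [map_smulₛₗ, map_smul, hx, RingHom.id_apply]
  | succ p ih =>
    intro x
    induction x using esec_induction with
    | wedge e =>
      rw [show ewedge (p + 2) B e = wedgeL (e 0) (p + 1) (ewedge (p + 1) B (Fin.tail e)) by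
        simp only [ewedge, wedgeL_ιMulti, Fin.cons_self_tail]]
      rw [contr_wedgeL, extRes_wedgeL, contr_wedgeL, map_sub, map_smulₛₗ, extRes_wedgeL, ih,
        resX_form]
    | zero => simp
    | add x y hx hy => simp only [map_add, hx, hy]
    | smul r x hx => simp only [map_smulₛₗ, map_smul, hx, RingHom.id_apply]

theorem extHom_extUnit (p : ℕ) (f : A ⟶ B) (U : X.Opens) (w : ESec p A U) :
    (extHom p f).app U (extUnit p A U w) = extUnit p B U (exteriorPower.map p (appₗ f U) w) := by
  induction w using esec_induction with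
  | wedge e =>
    rw [exteriorPower.map_apply_ιMulti]
    exact extHom_wedge p f U e
  | zero => simp
  | add x y hx hy => simp only [map_add, hx, hy]
  | smul r x hx =>
    rw [LinearMap.map_smul, Scheme.Modules.Hom.app_smul, hx, LinearMap.map_smul,
      LinearMap.map_smul]

theorem extRes_map (p : ℕ) (f : A ⟶ B) {U V : X.Opens} (h : V ≤ U) (w : ESec p A U) :
    extRes p B h (exteriorPower.map p (appₗ f U) w) =
      exteriorPower.map p (appₗ f V) (extRes p A h w) := by
  induction w using esec_induction with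
  | wedge e =>
    rw [exteriorPower.map_apply_ιMulti, extRes_ewedge]
    rw [extRes_ewedge p A, ewedge, ewedge, exteriorPower.map_apply_ιMulti]
    congr 1
    funext i
    exact (app_res f h (e i)).symm
  | zero => simp
  | add x y hx hy => simp only [map_add, hx, hy]
  | smul r x hx => simp only [map_smulₛₗ, map_smul, hx, RingHom.id_apply]

section

variable [A.IsQuasicoherent] [B.IsQuasicoherent] {f : A ⟶ B} {g : B ⟶ Coh.structureModule X}
  {w : f ≫ g = 0} (hS : (ShortComplex.mk f g w).ShortExact)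
  [(Coh.structureModule X).IsQuasicoherent]

include hS

theorem form_exact {U : X.Opens} (hU : IsAffineOpen U) :
    Function.Injective (appₗ f U) ∧ Function.Exact (appₗ f U) (form g U) ∧
      Function.Surjective (form g U) := by
  haveI : (ShortComplex.mk f g w).X₁.IsQuasicoherent := ‹A.IsQuasicoherent›
  haveI : (ShortComplex.mk f g w).X₂.IsQuasicoherent := ‹B.IsQuasicoherent›
  haveI : (ShortComplex.mk f g w).X₃.IsQuasicoherent := ‹(Coh.structureModule X).IsQuasicoherent›
  exact Groth.KTheory.ExtFilt.sections_exact hS hU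

theorem exists_contrHom (p : ℕ) :
    ∃ q : extPow (p + 1) B ⟶ extPow p A, ∀ (U : X.Opens), IsAffineOpen U → ∀ x : ESec (p + 1) B U,
      ∃ y : ESec p A U, q.app U (extUnit (p + 1) B U x) = extUnit p A U y ∧
        exteriorPower.map p (appₗ f U) y = contr (form g U) p x := by
  have hr : ∀ (U : X.Opens) (hU : IsAffineOpen U) (x : ESec (p + 1) B U),
      contr (form g U) p x ∈ LinearMap.range (exteriorPower.map p (appₗ f U)) := fun U hU x =>
    contr_mem_range (form_exact hS hU).1 (form_exact hS hU).2.1 (form_exact hS hU).2.2 p x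
  have hi : ∀ (U : X.Opens) (hU : IsAffineOpen U),
      Function.Injective (exteriorPower.map p (appₗ f U)) := fun U hU =>
    map_injective (form_exact hS hU).1 (form_exact hS hU).2.1 (form_exact hS hU).2.2 p
  let c : ∀ (U : X.Opens), IsAffineOpen U → (ESec (p + 1) B U →ₗ[Γ(X, U)] ESec p A U) :=
    fun U hU => (LinearEquiv.ofInjective _ (hi U hU)).symm.toLinearMap ∘ₗ
      LinearMap.codRestrict _ (contr (form g U) p) (hr U hU)
  have hc : ∀ (U : X.Opens) (hU : IsAffineOpen U) x,
      exteriorPower.map p (appₗ f U) (c U hU x) = contr (form g U) p x := fun U hU x =>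
    congrArg Subtype.val ((LinearEquiv.ofInjective _ (hi U hU)).apply_symm_apply ⟨_, hr U hU x⟩)
  let e : ∀ (U : X.Opens), IsAffineOpen U → ESec (p + 1) B U ≃ₗ[Γ(X, U)] Γ(extPow (p + 1) B, U) :=
    fun U hU => LinearEquiv.ofBijective _ (extUnit_bijective (p + 1) B hU)
  obtain ⟨q, hq⟩ := exists_hom_of_affine (L := extPow (p + 1) B) (M := extPow p A)
    (fun U hU => extUnit p A U ∘ₗ c U hU ∘ₗ (e U hU).symm.toLinearMap) fun U V hU hV h z => by
      obtain ⟨x, rfl⟩ := (e U hU).surjective z
      have he : res (extPow (p + 1) B) h (e U hU x) = e V hV (extRes (p + 1) B h x) :=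
        (extUnit_res (p + 1) B h x).symm
      rw [he]
      simp only [LinearMap.comp_apply, LinearEquiv.coe_coe, LinearEquiv.symm_apply_apply]
      rw [← extUnit_res]
      congr 1
      apply hi V hV
      rw [← extRes_map, hc U hU, hc V hV, extRes_contr]
  refine ⟨q, fun U hU x => ⟨c U hU x, ?_, hc U hU x⟩⟩
  rw [hq U hU]
  exact congrArg (fun z => extUnit p A U (c U hU z)) ((e U hU).symm_apply_apply x)

/-- The contraction `⋀ᵖ⁺¹ B ⟶ ⋀ᵖ A`. -/
noncomputable def contrHom (p : ℕ) : extPow (p + 1) B ⟶ extPow p A :=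
  (exists_contrHom hS p).choose

theorem extHom_contrHom (p : ℕ) : extHom (p + 1) f ≫ contrHom hS p = 0 := by
  refine Groth.KTheory.ExtFilt.hom_ext_affine fun U hU z => ?_
  obtain ⟨v, rfl⟩ := (extUnit_bijective (p + 1) A hU).2 z
  obtain ⟨y, h1, h2⟩ := (exists_contrHom hS p).choose_spec U hU
    (exteriorPower.map (p + 1) (appₗ f U) v)
  change (contrHom hS p).app U ((extHom (p + 1) f).app U (extUnit (p + 1) A U v)) = 0
  rw [extHom_extUnit]
  refine h1.trans ?_
  obtain ⟨hfi, hfe, hfs⟩ := form_exact hS hU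
  rw [contr_map (appₗ f U) (form g U) (LinearMap.ext hfe.apply_apply_eq_zero) p v] at h2
  rw [map_injective hfi hfe hfs p (h2.trans (map_zero _).symm), map_zero]

/-- The sequence `0 → ⋀ᵖ⁺¹ A → ⋀ᵖ⁺¹ B → ⋀ᵖ A → 0`. -/
noncomputable def extSeq (p : ℕ) : ShortComplex X.Modules :=
  ShortComplex.mk (extHom (p + 1) f) (contrHom hS p) (extHom_contrHom hS p)

/-- The sequence `0 → ⋀ᵖ⁺¹ A → ⋀ᵖ⁺¹ B → ⋀ᵖ A → 0` is short exact. -/
theorem shortExact_extSeq (p : ℕ) : (extSeq hS p).ShortExact := by
  haveI := isQCoh_extPow (p + 1) A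
  haveI := isQCoh_extPow (p + 1) B
  haveI := isQCoh_extPow p A
  have hcov : ∀ x : X, ∃ U : X.Opens, IsAffineOpen U ∧ x ∈ U := fun x => by
    obtain ⟨_, ⟨U, hU, rfl⟩, hxU, -⟩ :=
      X.isBasis_affineOpens.exists_subset_of_mem_open (show x ∈ (⊤ : X.Opens) from trivial)
        (⊤ : X.Opens).2
    exact ⟨U, hU, hxU⟩
  have hspec : ∀ U : X.Opens, IsAffineOpen U → ∀ x : ESec (p + 1) B U,
      ∃ y : ESec p A U, (contrHom hS p).app U (extUnit (p + 1) B U x) = extUnit p A U y ∧
        exteriorPower.map p (appₗ f U) y = contr (form g U) p x :=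
    (exists_contrHom hS p).choose_spec
  have hmono : Mono (extHom (p + 1) f) := Groth.OmegaSheaf.mono_of_affine_cover _ fun x => by
    obtain ⟨U, hU, hx⟩ := hcov x
    obtain ⟨hfi, hfe, hfs⟩ := form_exact hS hU
    refine ⟨U, hU, hx, fun a b hab => ?_⟩
    obtain ⟨a, rfl⟩ := (extUnit_bijective (p + 1) A hU).2 a
    obtain ⟨b, rfl⟩ := (extUnit_bijective (p + 1) A hU).2 b
    rw [extHom_extUnit, extHom_extUnit] at hab
    rw [map_injective hfi hfe hfs (p + 1) ((extUnit_bijective (p + 1) B hU).1 hab)]
  have hepi : Epi (contrHom hS p) := Groth.QCohMod.epi_of_affine_surjective _ fun U hU z => by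
    obtain ⟨hfi, hfe, hfs⟩ := form_exact hS hU
    obtain ⟨v, rfl⟩ := (extUnit_bijective p A hU).2 z
    obtain ⟨x, hx⟩ := exists_contr_eq hfi hfe hfs p v
    obtain ⟨y, h1, h2⟩ := hspec U hU x
    exact ⟨_, h1.trans (by rw [map_injective hfi hfe hfs p (h2.trans hx)])⟩
  have hex : (extSeq hS p).Exact := by
    haveI : (extSeq hS p).X₂.IsQuasicoherent := isQCoh_extPow (p + 1) B
    haveI : (extSeq hS p).X₃.IsQuasicoherent := isQCoh_extPow p A
    refine Groth.OmegaSheaf.exact_of_affine_cover _ fun x => ?_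
    obtain ⟨U, hU, hx⟩ := hcov x
    obtain ⟨hfi, hfe, hfs⟩ := form_exact hS hU
    refine ⟨U, hU, hx, fun m hm => ?_⟩
    obtain ⟨b, rfl⟩ := (extUnit_bijective (p + 1) B hU).2 m
    obtain ⟨y, h1, h2⟩ := hspec U hU b
    replace hm := h1.symm.trans hm
    rw [(extUnit_bijective p A hU).1 (hm.trans (map_zero _).symm), map_zero] at h2
    obtain ⟨v, hv⟩ := (exact_map_contr hfi hfe hfs p b).1 h2.symm
    exact ⟨extUnit (p + 1) A U v, (extHom_extUnit (p + 1) f U v).trans (by rw [hv])⟩
  exact { exact := hex, mono_f := hmono, epi_g := hepi }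

end

end Groth.PnHodge
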