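import Groth.Agent.DR.Contract
import Groth.Agent.KTheory.ExtFilt
import Mathlib.LinearAlgebra.CliffordAlgebra.Fold

/-!
# Contraction of exterior powers along a split extension by the base ring

For a short exact sequence `0 → N → M → R → 0` with the map `θ : M → R`, contraction by `θ` maps
`⋀ᵖ⁺¹ M` onto the image of `⋀ᵖ N` with kernel the image of `⋀ᵖ⁺¹ N`.
-/

set_option autoImplicit false
universe u

open exteriorPower Groth.DR

namespace Groth.PnHodge

variable {R M N : Type u} [CommRing R] [AddCommGroup M] [Module R M] [AddCommGroup N] [Module R N]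

theorem contractLeft_map_eq_zero (f : N →ₗ[R] M) (θ : M →ₗ[R] R) (h : θ ∘ₗ f = 0)
    (z : ExteriorAlgebra R N) :
    CliffordAlgebra.contractLeft (Q := (0 : QuadraticForm R M)) θ (ExteriorAlgebra.map f z) = 0 := by
  induction z using CliffordAlgebra.left_induction with
  | algebraMap r =>
    erw [AlgHom.commutes, CliffordAlgebra.contractLeft_algebraMap]
  | add x y hx hy => rw [map_add, map_add, hx, hy, add_zero]
  | ι_mul x m hx =>
    erw [map_mul, ExteriorAlgebra.map_apply_ι, CliffordAlgebra.contractLeft_ι_mul, hx]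
    rw [show θ (f m) = 0 from LinearMap.congr_fun h m, zero_smul, mul_zero, sub_zero]

theorem map_proj_eq (θ : M →ₗ[R] R) (e : M) (he : θ e = 1) (z : ExteriorAlgebra R M) :
    ExteriorAlgebra.map (LinearMap.id - θ.smulRight e) z =
      z - ExteriorAlgebra.ι R e *
        CliffordAlgebra.contractLeft (Q := (0 : QuadraticForm R M)) θ z := by
  induction z using CliffordAlgebra.left_induction with
  | algebraMap r =>
    rw [AlgHom.commutes]
    erw [CliffordAlgebra.contractLeft_algebraMap, mul_zero, sub_zero]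
  | add x y hx hy =>
    rw [map_add, map_add, hx, hy, mul_add]
    exact sub_add_sub_comm _ _ _ _
  | ι_mul x m hx =>
    erw [map_mul, ExteriorAlgebra.map_apply_ι, hx, CliffordAlgebra.contractLeft_ι_mul]
    simp only [LinearMap.sub_apply, LinearMap.id_apply, LinearMap.smulRight_apply, map_sub,
      map_smul, sub_mul, mul_sub, smul_mul_assoc, mul_smul_comm]
    rw [← mul_assoc (ExteriorAlgebra.ι R e) (ExteriorAlgebra.ι R e), ExteriorAlgebra.ι_sq_zero,
      zero_mul, smul_zero, sub_zero, ← mul_assoc (ExteriorAlgebra.ι R m) (ExteriorAlgebra.ι R e),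
      eq_neg_of_add_eq_zero_left (ExteriorAlgebra.ι_add_mul_swap m e), neg_mul, mul_assoc]
    change _ = ExteriorAlgebra.ι R m * x - _
    abel

theorem contr_contr (θ : M →ₗ[R] R) (p : ℕ) (x : ⋀[R]^(p + 2) M) :
    contr θ p (contr θ (p + 1) x) = 0 :=
  Subtype.ext (CliffordAlgebra.contractLeft_contractLeft θ _)

theorem contr_map (f : N →ₗ[R] M) (θ : M →ₗ[R] R) (h : θ ∘ₗ f = 0) (p : ℕ)
    (w : ⋀[R]^(p + 1) N) : contr θ p (exteriorPower.map (p + 1) f w) = 0 :=
  Subtype.ext (by
    change CliffordAlgebra.contractLeft (Q := (0 : QuadraticForm R M)) θ _ = _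
    rw [Submodule.coe_subtype, coe_map]
    exact contractLeft_map_eq_zero f θ h _)

/-- A left inverse of `f` gives a left inverse of `⋀ᵖ f`. -/
theorem map_leftInverse (f : N →ₗ[R] M) (r : M →ₗ[R] N) (hr : r ∘ₗ f = LinearMap.id) (p : ℕ)
    (w : ⋀[R]^p N) : exteriorPower.map p r (exteriorPower.map p f w) = w := by
  rw [← LinearMap.comp_apply, ← exteriorPower.map_comp, hr, exteriorPower.map_id, LinearMap.id_apply]

variable {f : N →ₗ[R] M} {θ : M →ₗ[R] R}
  (hf : Function.Injective f) (hex : Function.Exact f θ) (hθ : Function.Surjective θ)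

include hf hex hθ

theorem exists_retract : ∃ (r : M →ₗ[R] N) (e : M), r ∘ₗ f = LinearMap.id ∧ θ e = 1 ∧
    f ∘ₗ r = LinearMap.id - θ.smulRight e := by
  obtain ⟨r, s, hr, hs, hfr⟩ := Groth.KTheory.ExtFilt.exists_splitting hf hex hθ
  refine ⟨r, s 1, hr, LinearMap.congr_fun hs 1, LinearMap.ext fun a => ?_⟩
  rw [LinearMap.comp_apply, hfr, LinearMap.sub_apply, LinearMap.id_apply, LinearMap.smulRight_apply,
    ← map_smul, smul_eq_mul, mul_one]

theorem map_injective (p : ℕ) : Function.Injective (exteriorPower.map p f) := by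
  obtain ⟨r, -, hr, -, -⟩ := exists_retract hf hex hθ
  exact Function.LeftInverse.injective (map_leftInverse f r hr p)

/-- The kernel of the contraction. -/
theorem exact_map_contr (p : ℕ) :
    Function.Exact (exteriorPower.map (p + 1) f) (contr θ p) := by
  refine fun x => ⟨fun hx => ?_, ?_⟩
  · obtain ⟨r, e, -, he, hfr⟩ := exists_retract hf hex hθ
    refine ⟨exteriorPower.map (p + 1) r x, Subtype.ext ?_⟩
    have hx' : CliffordAlgebra.contractLeft (Q := (0 : QuadraticForm R M)) θ
        (x : ExteriorAlgebra R M) = 0 := congrArg Subtype.val hx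
    rw [← LinearMap.comp_apply, ← exteriorPower.map_comp, coe_map, hfr, map_proj_eq θ e he, hx',
      mul_zero, sub_zero]
  · rintro ⟨w, rfl⟩
    exact contr_map f θ (LinearMap.ext hex.apply_apply_eq_zero) p w

/-- Contraction lands in the exterior power of the submodule. -/
theorem contr_mem_range (p : ℕ) (x : ⋀[R]^(p + 1) M) :
    contr θ p x ∈ LinearMap.range (exteriorPower.map p f) := by
  obtain ⟨r, e, -, he, hfr⟩ := exists_retract hf hex hθ
  refine ⟨exteriorPower.map p r (contr θ p x), Subtype.ext ?_⟩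
  rw [← LinearMap.comp_apply, ← exteriorPower.map_comp, coe_map, hfr, map_proj_eq θ e he]
  have h : CliffordAlgebra.contractLeft (Q := (0 : QuadraticForm R M)) θ
      (contr θ p x : ExteriorAlgebra R M) = 0 := CliffordAlgebra.contractLeft_contractLeft θ _
  rw [h, mul_zero, sub_zero]

/-- Every element of the exterior power of the submodule is a contraction. -/
theorem exists_contr_eq (p : ℕ) (w : ⋀[R]^p N) :
    ∃ x, contr θ p x = exteriorPower.map p f w := by
  obtain ⟨-, e, -, he, -⟩ := exists_retract hf hex hθ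
  refine ⟨wedgeL e p (exteriorPower.map p f w), Subtype.ext ?_⟩
  change CliffordAlgebra.contractLeft (Q := (0 : QuadraticForm R M)) θ _ = _
  rw [Submodule.coe_subtype, coe_wedgeL]
  erw [CliffordAlgebra.contractLeft_ι_mul]
  rw [coe_map, contractLeft_map_eq_zero f θ (LinearMap.ext hex.apply_apply_eq_zero), mul_zero,
    sub_zero, he, one_smul]

end Groth.PnHodge
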