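import Groth.Agent.PnHodge.Twisted
import Groth.Agent.PnCoh.VanishingClosed

/-!
# Bott vanishing on projective space over a ring
-/

set_option autoImplicit false

universe u

open CategoryTheory CategoryTheory.Limits AlgebraicGeometry
open Groth.LocFree Groth.PnEuler

noncomputable section

namespace Groth.PnHodge

variable (n : ℕ) (R : Type u) [CommRing R]

local notation "X₀" => CohB1.ProjSpace n R
local notation "O(" a ")" => Twist.twistProjSpace n R a
local notation "H(" q ", " p ", " d ")" => Coh.HH (CohB1.ProjSpace n R) (omegaTw n R p d) q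

theorem subsingleton_of_iso {M N : (X₀).Modules} (e : M ≅ N) {q : ℕ}
    [Subsingleton (Coh.HH X₀ N q)] : Subsingleton (Coh.HH X₀ M q) :=
  (EulerDeg.hEquiv R e q).toEquiv.subsingleton

theorem subsingleton_mid {p : ℕ} {d : ℤ} {q : ℕ} (h₀ : ¬ (q = 0 ∧ (p : ℤ) ≤ d))
    (hn : ¬ (q = n ∧ d < (p : ℤ) - n)) : Subsingleton (Coh.HH X₀ (midTw n R p d) q) := by
  obtain ⟨e⟩ := nonempty_midTw_equiv n R p d q
  have := Groth.PnCoh.subsingleton_HH_twist (n := n) (R := R) (d - p) q (by omega) (by omega)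
  exact e.toEquiv.subsingleton

/-- The step upwards. -/
theorem subsingleton_succ {p : ℕ} {d : ℤ} {q : ℕ} (h₃ : Subsingleton H(q, p, d))
    (h₂ : Subsingleton (Coh.HH X₀ (midTw n R (p + 1) d) (q + 1))) :
    Subsingleton H(q + 1, p + 1, d) := by
  refine subsingleton_of_forall_eq 0 fun x => ?_
  have hS := shortExact_twSeq n R p d
  obtain ⟨y, rfl⟩ := (EulerDeg.exact_left R hS q x).1 (@Subsingleton.elim _ h₂ _ _)
  rw [show y = 0 from @Subsingleton.elim _ h₃ _ _]
  exact map_zero (EulerDeg.hDelta R hS q)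

/-- The step downwards. -/
theorem subsingleton_pred {p : ℕ} {d : ℤ} {q : ℕ} (h₁ : Subsingleton H(q + 1, p + 1, d))
    (h₂ : Subsingleton (Coh.HH X₀ (midTw n R (p + 1) d) q)) : Subsingleton H(q, p, d) := by
  refine subsingleton_of_forall_eq 0 fun x => ?_
  have hS := shortExact_twSeq n R p d
  obtain ⟨y, rfl⟩ := (EulerDeg.exact_right R hS q x).1 (@Subsingleton.elim _ h₁ _ _)
  rw [show y = 0 from @Subsingleton.elim _ h₂ _ _]
  exact map_zero (EulerDeg.hMap R (twSeq n R p d).g q)

theorem subsingleton_of_lt_p {p : ℕ} (hp : n < p) (d : ℤ) (q : ℕ) : Subsingleton H(q, p, d) := by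
  refine subsingleton_of_forall_eq 0 fun x => ?_
  have h : (EulerDeg.hMap R (𝟙 (omegaTw n R p d)) q) x = x := by rw [EulerDeg.hMap_id]; rfl
  rw [(IsZero.iff_id_eq_zero _).1 (isZero_omegaTw n R hp d), Groth.Duality.hMap_zero,
    LinearMap.zero_apply] at h
  exact h.symm

theorem subsingleton_low : ∀ (p q : ℕ) (d : ℤ), q ≤ n → (p < q ∨ (p = q ∧ d < 0)) →
    ¬ (q = n ∧ d < (p : ℤ) - n) → Subsingleton H(q, p, d) := by
  intro p
  induction p with
  | zero =>
    intro q d hq h hn
    obtain ⟨e⟩ := nonempty_omegaTw_zero n R d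
    have := Groth.PnCoh.subsingleton_HH_twist (n := n) (R := R) d q (by omega) (by omega)
    exact subsingleton_of_iso n R e
  | succ p ih =>
    intro q d hq h hn
    obtain ⟨q, rfl⟩ : ∃ q', q = q' + 1 := ⟨q - 1, by omega⟩
    exact subsingleton_succ n R (ih q d (by omega) (by omega) (by omega))
      (subsingleton_mid n R (by omega) (by omega))

theorem subsingleton_high : ∀ (k p q : ℕ) (d : ℤ), n < p + k → (q < p ∨ (q = p ∧ 0 < d)) →
    ¬ (q = 0 ∧ (p : ℤ) < d) → Subsingleton H(q, p, d) := by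
  intro k
  induction k with
  | zero =>
    intro p q d hk _ _
    exact subsingleton_of_lt_p n R (by omega) d q
  | succ k ih =>
    intro p q d hk h h0
    by_cases hp : n < p
    · exact subsingleton_of_lt_p n R hp d q
    exact subsingleton_pred n R (ih (p + 1) (q + 1) d (by omega) (by omega) (by omega))
      (subsingleton_mid n R (by omega) (by omega))

/-- Bott vanishing: `Hq(Ωᵖ(d)) = 0` outside of `q = p, d = 0`, of `q = 0, d > p`, and of
`q = n, d < p - n`. -/
theorem subsingleton_omegaTw (p q : ℕ) (d : ℤ) (h1 : ¬ (q = p ∧ d = 0 ∧ p ≤ n))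
    (h2 : ¬ (q = 0 ∧ (p : ℤ) < d)) (h3 : ¬ (q = n ∧ d < (p : ℤ) - n)) :
    Subsingleton H(q, p, d) := by
  rcases lt_or_ge n p with hp | hp
  · exact subsingleton_of_lt_p n R hp d q
  rcases lt_or_ge n q with hq | hq
  · haveI : Coh.IsQCoh (omegaTw n R p d) := isQCoh_omegaTw n R p d
    exact Groth.PnCoh.subsingleton_HH_of_lt n R (omegaTw n R p d) hq
  by_cases hlow : p < q ∨ (p = q ∧ d < 0)
  · exact subsingleton_low n R p q d hq hlow h3
  · exact subsingleton_high n R (n + 1) p q d (by omega) (by omega) h2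

/-- `Hᵖ(Ωᵖ) ≅ R`. -/
theorem nonempty_diag_equiv : ∀ (p : ℕ), p ≤ n → Nonempty (H(p, p, 0) ≃ₗ[R] R) := by
  intro p
  induction p with
  | zero =>
    intro _
    obtain ⟨e⟩ := nonempty_omegaTw_zero n R 0
    exact ⟨(EulerDeg.hEquiv R e 0).trans ((Groth.PnCoh.h0Equiv (n := n) (R := R) 0).symm.trans
      (LinearEquiv.ofBijective _ (Groth.PnCoh.scalarPoly_bijective n R)).symm)⟩
  | succ p ih =>
    intro hp
    obtain ⟨e⟩ := ih (by omega)
    have hS := shortExact_twSeq n R p 0
    have ha := subsingleton_mid n R (p := p + 1) (d := 0) (q := p) (by omega) (by omega)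
    have hb := subsingleton_mid n R (p := p + 1) (d := 0) (q := p + 1) (by omega) (by omega)
    refine ⟨(LinearEquiv.ofBijective (EulerDeg.hDelta R hS p) ⟨?_, fun x => ?_⟩).symm.trans e⟩
    · refine (injective_iff_map_eq_zero _).2 fun x hx => ?_
      obtain ⟨y, rfl⟩ := (EulerDeg.exact_right R hS p x).1 hx
      rw [show y = 0 from @Subsingleton.elim _ ha _ _]
      exact map_zero (EulerDeg.hMap R (twSeq n R p 0).g p)
    · exact (EulerDeg.exact_left R hS p x).1 (@Subsingleton.elim _ hb _ _)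

/-- Exterior powers of the differentials, twisted. -/
theorem nonempty_iso_omegaTw {p : ℕ} {L : (X₀).Modules} (hL : ExtPow.IsExtPow p
    (Omega.sheaf (CohB1.ProjSpace.toSpec n R)) L) (d : ℤ) :
    Nonempty (CohB1.tensorMod L O(d) ≅ omegaTw n R p d) := by
  obtain ⟨ε⟩ := nonempty_iso_extPow hL
  exact ⟨((DCoh.tensorRightMod O(d)).mapIso ε).symm⟩

/-- Exterior powers of the differentials. -/
theorem nonempty_iso_omegaTw_zero {p : ℕ} {L : (X₀).Modules} (hL : ExtPow.IsExtPow p
    (Omega.sheaf (CohB1.ProjSpace.toSpec n R)) L) : Nonempty (L ≅ omegaTw n R p 0) := by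
  obtain ⟨ε⟩ := nonempty_iso_extPow hL
  obtain ⟨e⟩ := nonempty_omegaTw_twist_zero n R p
  exact ⟨ε.symm ≪≫ e.symm⟩

end Groth.PnHodge
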