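import Mathlib.Data.Nat.Choose.Cast
import Mathlib.Data.Rat.Cast.Lemmas
import Mathlib.Tactic.FieldSimp
import Mathlib.Tactic.Ring
import Mathlib.Tactic.LinearCombination

/-!
# The recursion of Bott's numbers
-/

namespace Groth.PnHodge

open Nat

/-- Bott's number `C(d + n - p, d) · C(d - 1, p)`. -/
def bott (n p d : ℕ) : ℕ := (d + n - p).choose d * (d - 1).choose p

theorem bott_add_bott_succ_aux (p a b : ℕ) :
    (p + b + 2 + a + 1).choose (p + b + 2) * (p + 1 + b).choose p +
        (p + b + 2 + a).choose (p + b + 2) * (p + 1 + b).choose (p + 1) =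
      (p + a + 2).choose (p + 1) * (b + p + 2 + a).choose (p + 1 + a) := by
  apply Nat.cast_injective (R := ℚ)
  push_cast
  have c : ∀ {N i j : ℕ}, i + j = N → ((N.choose i : ℕ) : ℚ) = N ! / (i ! * j !) := by
    intro N i j h
    subst h
    exact Nat.cast_add_choose ℚ
  rw [c (show (p + b + 2) + (a + 1) = p + b + 2 + a + 1 by omega),
    c (show p + (b + 1) = p + 1 + b by omega), c (show (p + b + 2) + a = p + b + 2 + a by omega),
    c (show (p + 1) + b = p + 1 + b by omega), c (show (p + 1) + (a + 1) = p + a + 2 by omega),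
    c (show (p + 1 + a) + (b + 1) = b + p + 2 + a by omega),
    show b + p + 2 + a = p + b + 2 + a by omega, show p + 1 + b = p + b + 1 by omega,
    show p + a + 2 = (p + a + 1) + 1 by omega, show p + 1 + a = p + a + 1 by omega,
    show p + b + 2 + a + 1 = (p + b + 2 + a) + 1 by omega,
    show (p + b + 2)! = (p + b + 1 + 1)! from rfl]
  simp only [Nat.factorial_succ, Nat.cast_mul]
  push_cast
  have := Nat.factorial_ne_zero p
  have := Nat.factorial_ne_zero a
  have := Nat.factorial_ne_zero b
  field_simp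
  ring

theorem bott_add_bott_succ {n p d : ℕ} (hd : 1 ≤ d) (hp : p + 1 ≤ n) :
    bott n p d + bott n (p + 1) d = (n + 1).choose (p + 1) * (d + n - p - 1).choose n := by
  obtain ⟨a, rfl⟩ : ∃ a, n = p + 1 + a := ⟨n - (p + 1), by omega⟩
  rcases le_or_gt d p with h | h
  · simp only [bott]
    rw [Nat.choose_eq_zero_of_lt (show d - 1 < p by omega),
      Nat.choose_eq_zero_of_lt (show d - 1 < p + 1 by omega),
      Nat.choose_eq_zero_of_lt (show d + (p + 1 + a) - p - 1 < p + 1 + a by omega)]
    simp
  rcases eq_or_lt_of_le (show p + 1 ≤ d by omega) with rfl | h'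
  · simp only [bott, Nat.add_sub_cancel]
    rw [Nat.choose_self, Nat.choose_eq_zero_of_lt (show p < p + 1 by omega),
      show p + 1 + (p + 1 + a) - p = p + a + 2 by omega,
      show p + a + 2 - 1 = p + 1 + a by omega, Nat.choose_self,
      show p + 1 + a + 1 = p + a + 2 by omega]
    simp
  obtain ⟨b, rfl⟩ : ∃ b, d = p + b + 2 := ⟨d - p - 2, by omega⟩
  have h1 := bott_add_bott_succ_aux p a b
  simp only [bott]
  rw [show p + b + 2 + (p + 1 + a) - p = p + b + 2 + a + 1 by omega,
    show p + b + 2 + (p + 1 + a) - (p + 1) = p + b + 2 + a by omega,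
    show p + b + 2 - 1 = p + 1 + b by omega,
    show p + b + 2 + a + 1 - 1 = b + p + 2 + a by omega,
    show p + 1 + a + 1 = p + a + 2 by omega]
  exact h1

end Groth.PnHodge
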