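import Groth.Agent.PnHodge.Bott
import Groth.Agent.PnHodge.Identity
import Groth.Agent.PnCoh.Euler

/-!
# Bott's formula
-/

set_option autoImplicit false

universe u

open CategoryTheory CategoryTheory.Limits AlgebraicGeometry
open Groth.LocFree Groth.PnEuler

noncomputable section

namespace Groth.PnHodge

variable (n : ℕ) (k : Type u) [Field k]

local notation "X₀" => CohB1.ProjSpace n k
local notation "O(" a ")" => Twist.twistProjSpace n k a
local notation "H(" q ", " p ", " d ")" => Coh.HH (CohB1.ProjSpace n k) (omegaTw n k p d) q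

theorem finrank_h0_twist (m : ℤ) :
    Module.finrank k (Coh.HH X₀ O(m) 0) = if 0 ≤ m then (m.toNat + n).choose n else
      Module.finrank k (Coh.HH X₀ O(m) 0) := by
  split_ifs with h
  · obtain ⟨j, rfl⟩ := Int.eq_ofNat_of_zero_le h
    rw [Int.toNat_natCast]
    refine (Groth.PnCoh.finrank_h0 k n j).trans ?_
    rw [Nat.add_comm n j, Nat.choose_symm_add]
  · rfl

theorem finite_twist (m : ℤ) (q : ℕ) : Module.Finite k (Coh.HH X₀ O(m) q) := by
  by_cases h0 : q = 0 ∧ 0 ≤ m
  · obtain ⟨rfl, h⟩ := h0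
    obtain ⟨j, rfl⟩ := Int.eq_ofNat_of_zero_le h
    haveI : Module.Finite k (MvPolynomial.homogeneousSubmodule (Fin (n + 1)) k j) :=
      inferInstanceAs (Module.Finite k (LefPen.Form n k j))
    exact Module.Finite.equiv (Groth.PnCoh.h0Equiv (n := n) (R := k) j)
  by_cases hn : q = n ∧ m ≤ -((n : ℤ) + 1)
  · obtain ⟨rfl, h⟩ := hn
    obtain ⟨j, rfl⟩ : ∃ j : ℕ, m = -((q : ℤ) + 1 + j) := ⟨(-m - (q : ℤ) - 1).toNat, by omega⟩
    haveI : Module.Finite k (MvPolynomial.homogeneousSubmodule (Fin (q + 1)) k j) :=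
      inferInstanceAs (Module.Finite k (LefPen.Form q k j))
    exact Module.Finite.equiv (Groth.PnCoh.hTopEquiv (n := q) (R := k) j)
  haveI := Groth.PnCoh.subsingleton_HH_twist (n := n) (R := k) m q h0 hn
  exact inferInstance

theorem finite_mid (p : ℕ) (d : ℤ) (q : ℕ) : Module.Finite k (Coh.HH X₀ (midTw n k p d) q) := by
  obtain ⟨e⟩ := nonempty_midTw_equiv n k p d q
  haveI := fun _ : Sub n p => finite_twist n k (d - p) q
  exact Module.Finite.equiv e.symm

theorem finrank_mid (p : ℕ) (d : ℤ) (q : ℕ) :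
    Module.finrank k (Coh.HH X₀ (midTw n k p d) q) =
      (n + 1).choose p * Module.finrank k (Coh.HH X₀ O(d - p) q) := by
  obtain ⟨e⟩ := nonempty_midTw_equiv n k p d q
  haveI := finite_twist n k (d - p) q
  rw [e.finrank_eq, Module.finrank_pi_fintype, Finset.sum_const, smul_eq_mul, Finset.card_univ,
    Fintype.card_eq_nat_card, Set.powersetCard.card, Nat.card_eq_fintype_card, Fintype.card_fin]

theorem finrank_h0_mid {p d : ℕ} (hd : 1 ≤ d) (hp : p + 1 ≤ n) :
    Module.finrank k (Coh.HH X₀ (midTw n k (p + 1) (d : ℤ)) 0) =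
      (n + 1).choose (p + 1) * (d + n - p - 1).choose n := by
  rw [finrank_mid]
  congr 1
  by_cases h : p + 1 ≤ d
  · rw [finrank_h0_twist, if_pos (by omega)]
    congr 1
    omega
  · haveI := Groth.PnCoh.subsingleton_HH_twist (n := n) (R := k) ((d : ℤ) - (p + 1 : ℕ)) 0
      (by omega) (by omega)
    rw [Module.finrank_zero_of_subsingleton, Nat.choose_eq_zero_of_lt (by omega)]

/-- Rank and nullity in a short exact sequence with a surjective second map. -/
theorem finrank_mid_eq {A B C : Type u} [AddCommGroup A] [Module k A] [AddCommGroup B] [Module k B]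
    [AddCommGroup C] [Module k C] (hB : Module.Finite k B) (f : A →ₗ[k] B) (g : B →ₗ[k] C)
    (hf : Function.Injective f) (hfg : Function.Exact f g) (hg : Function.Surjective g) :
    Module.finrank k B = Module.finrank k A + Module.finrank k C := by
  rw [← LinearMap.finrank_range_add_finrank_ker g, LinearMap.range_eq_top.2 hg, finrank_top,
    LinearMap.exact_iff.1 hfg, LinearMap.finrank_range_of_inj hf, add_comm]

theorem finrank_omegaTw_zero (d : ℤ) (q : ℕ) :
    Module.finrank k H(q, 0, d) = Module.finrank k (Coh.HH X₀ O(d) q) := by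
  obtain ⟨e⟩ := nonempty_omegaTw_zero n k d
  exact (EulerDeg.hEquiv k e q).finrank_eq

/-- Bott's formula in degree zero, for positive twists. -/
theorem finrank_h0_omegaTw {d : ℕ} (hd : 1 ≤ d) :
    ∀ p : ℕ, p ≤ n → Module.finrank k H(0, p, (d : ℤ)) = bott n p d := by
  intro p
  induction p with
  | zero =>
    intro _
    rw [finrank_omegaTw_zero, finrank_h0_twist, if_pos (by omega), Int.toNat_natCast, bott,
      Nat.choose_zero_right, mul_one, Nat.sub_zero, Nat.choose_symm_add]
  | succ p ih =>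
    intro hp
    have hS := shortExact_twSeq n k p (d : ℤ)
    haveI h1 := subsingleton_omegaTw n k (p + 1) 1 (d : ℤ) (by omega) (by omega) (by omega)
    have h := finrank_mid_eq k (finite_mid n k (p + 1) (d : ℤ) 0) (EulerDeg.hMap k (twSeq n k p (d : ℤ)).f 0)
      (EulerDeg.hMap k (twSeq n k p (d : ℤ)).g 0) (EulerDeg.injective_zero k hS)
      (EulerDeg.exact_mid k hS 0)
      (fun x => (EulerDeg.exact_right k hS 0 x).1 (@Subsingleton.elim _ h1 _ _))
    have h' : Module.finrank k (Coh.HH X₀ (midTw n k (p + 1) (d : ℤ)) 0) =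
        Module.finrank k H(0, p + 1, (d : ℤ)) + Module.finrank k H(0, p, (d : ℤ)) := h
    rw [finrank_h0_mid n k hd hp, ih (by omega), ← bott_add_bott_succ hd hp] at h'
    omega

theorem finrank_hTop_twist (m : ℕ) :
    Module.finrank k (Coh.HH X₀ O(-(m : ℤ) - 1) n) = m.choose n := by
  rcases lt_or_ge m n with h | h
  · haveI := Groth.PnCoh.subsingleton_HH_twist (n := n) (R := k) (-(m : ℤ) - 1) n (by omega)
      (by omega)
    rw [Module.finrank_zero_of_subsingleton, Nat.choose_eq_zero_of_lt h]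
  · obtain ⟨j, rfl⟩ : ∃ j, m = n + j := ⟨m - n, by omega⟩
    rw [show -((n + j : ℕ) : ℤ) - 1 = -((n : ℤ) + 1 + j) by push_cast; ring]
    refine (Groth.PnCoh.finrank_hTop k n j).trans ?_
    rw [Nat.choose_symm_add]

/-- Bott's formula in the top degree, for negative twists. -/
theorem finrank_hTop_omegaTw {e : ℕ} (he : 1 ≤ e) :
    ∀ p : ℕ, p ≤ n → Module.finrank k H(n, p, -(e : ℤ)) = bott n (n - p) e := by
  intro p
  induction p with
  | zero =>
    intro _
    obtain ⟨m, rfl⟩ : ∃ m, e = m + 1 := ⟨e - 1, by omega⟩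
    rw [finrank_omegaTw_zero, show -((m + 1 : ℕ) : ℤ) = -(m : ℤ) - 1 by push_cast; ring,
      finrank_hTop_twist, bott, Nat.sub_zero, Nat.add_sub_cancel, Nat.choose_self, one_mul,
      Nat.add_sub_cancel]
  | succ p ih =>
    intro hp
    obtain ⟨n', rfl⟩ : ∃ n', n = n' + 1 := ⟨n - 1, by omega⟩
    have hS := shortExact_twSeq (n' + 1) k p (-(e : ℤ))
    haveI h0 := subsingleton_omegaTw (n' + 1) k p n' (-(e : ℤ)) (by omega) (by omega) (by omega)
    haveI : Coh.IsQCoh (omegaTw (n' + 1) k (p + 1) (-(e : ℤ))) :=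
      isQCoh_omegaTw (n' + 1) k (p + 1) _
    haveI h1 := Groth.PnCoh.subsingleton_HH_of_lt (n' + 1) k
      (omegaTw (n' + 1) k (p + 1) (-(e : ℤ))) (show n' + 1 < n' + 1 + 1 by omega)
    have h := finrank_mid_eq k (finite_mid (n' + 1) k (p + 1) (-(e : ℤ)) (n' + 1))
      (EulerDeg.hMap k (twSeq (n' + 1) k p (-(e : ℤ))).f (n' + 1))
      (EulerDeg.hMap k (twSeq (n' + 1) k p (-(e : ℤ))).g (n' + 1))
      ((injective_iff_map_eq_zero _).2 fun x hx => by
        obtain ⟨y, rfl⟩ := (EulerDeg.exact_left k hS n' x).1 hx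
        rw [show y = 0 from @Subsingleton.elim _ h0 _ _]
        exact map_zero (EulerDeg.hDelta k hS n'))
      (EulerDeg.exact_mid k hS (n' + 1))
      (fun x => (EulerDeg.exact_right k hS (n' + 1) x).1 (@Subsingleton.elim _ h1 _ _))
    have h' : Module.finrank k
        (Coh.HH (CohB1.ProjSpace (n' + 1) k) (midTw (n' + 1) k (p + 1) (-(e : ℤ))) (n' + 1)) =
        Module.finrank k
            (Coh.HH (CohB1.ProjSpace (n' + 1) k) (omegaTw (n' + 1) k (p + 1) (-(e : ℤ))) (n' + 1)) +
          Module.finrank k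
            (Coh.HH (CohB1.ProjSpace (n' + 1) k) (omegaTw (n' + 1) k p (-(e : ℤ))) (n' + 1)) := h
    rw [finrank_mid, show -(e : ℤ) - ((p + 1 : ℕ) : ℤ) = -((e + p : ℕ) : ℤ) - 1 by push_cast; ring,
      finrank_hTop_twist, ih (by omega)] at h'
    have h2 := bott_add_bott_succ (n := n' + 1) (p := n' - p) he (by omega)
    rw [show n' - p + 1 = n' + 1 - p by omega, show e + (n' + 1) - (n' - p) - 1 = e + p by omega,
      show (n' + 1 + 1).choose (n' + 1 - p) = (n' + 1 + 1).choose (p + 1) by
        rw [← Nat.choose_symm (show p + 1 ≤ n' + 1 + 1 by omega)]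
        congr 1
        omega] at h2
    rw [show n' + 1 - (p + 1) = n' - p by omega]
    omega

end Groth.PnHodge
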