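import Groth.Agent.PnEuler.Det
import Mathlib.LinearAlgebra.ExteriorPower.Basis

/-!
# `⋀ᵖ (O(-1)^{n+1}) ≅ O(-p)^{C(n+1, p)}` by minors
-/

set_option autoImplicit false

universe u

open CategoryTheory CategoryTheory.Limits AlgebraicGeometry Opposite TopologicalSpace MvPolynomial
open Groth.Ega2Proj Groth.PicAux Groth.PnEuler

noncomputable section

attribute [local instance] HasFiniteBiproducts.of_hasFiniteProducts

namespace Groth.PnHodge

variable {n : ℕ} {R : Type u} [CommRing R] {p : ℕ}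

local notation "X₀" => CohB1.ProjSpace n R
local notation "𝔓" => CohB1.polyGrading n R
local notation "A₀" => MvPolynomial (Fin (n + 1)) R
local notation "O₍" p "₎" => Twist.twistProjSpace n R (-((p : ℕ) : ℤ))

variable (n p) in
/-- The `p`-element subsets of the coordinates. -/
abbrev Sub : Type := Set.powersetCard (Fin (n + 1)) p

/-- The increasing enumeration of a subset. -/
abbrev sel (s : Sub n p) : Fin p ↪o Fin (n + 1) := Set.powersetCard.ofFinEmbEquiv.symm s

/-- The minor at a point. -/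
def minVal (s : Sub n p) (U : (X₀).Opens) (e : Fin p → Γ(mid n R, U)) (x : ProjectiveSpectrum 𝔓)
    (hx : x ∈ U) : L x :=
  (Matrix.of fun r k => val ((prj n R (sel s k)).app U (e r)) x hx).det

variable (p) in
/-- The generator `1 / X_j^p`. -/
def gP (j : Fin (n + 1)) : Γ(O₍p₎, dOp j) :=
  fracGen (e := 0) (e' := p) (SetLike.GradedOne.one_mem : (1 : A₀) ∈ 𝔓 0)
    (h := (MvPolynomial.X j : A₀) ^ p)
    (by simpa using SetLike.pow_mem_graded p (Groth.Chow.ToPn.X_mem (R := R) j))
    (n := -(p : ℤ)) (by omega) (dOp j) fun x hx h => hx (x.isPrime.mem_of_pow_mem _ h)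

theorem gen_gP (j : Fin (n + 1)) : Gen O₍p₎ (dOp j) (gP (R := R) p j) :=
  gen_fracGen _ _ _ _ _ fun x _ => Groth.PnEuler.one_notMem x

theorem val_gP (j : Fin (n + 1)) {W : (X₀).Opens} (h : W ≤ dOp (R := R) j) (x : ProjectiveSpectrum 𝔓)
    (hx : x ∈ W) : val (res O₍p₎ h (gP (R := R) p j)) x hx = lfrac 𝔓 x 1 (X_notMem (h hx)) ^ p := by
  change Localization.mk _ _ = Localization.mk _ _ ^ p
  rw [Localization.mk_pow]
  exact congrArg₂ Localization.mk (one_pow _).symm (Subtype.ext rfl)

theorem exists_min_section (s : Sub n p) (U : (X₀).Opens) (e : Fin p → Γ(mid n R, U)) (j : Fin (n + 1)) :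
    ∃ S : Γ(O₍p₎, U ⊓ dOp (R := R) j), ∀ (x : ProjectiveSpectrum 𝔓) (hx : x ∈ U ⊓ dOp (R := R) j),
      val S x hx = minVal s U e x hx.1 := by
  choose a ha using fun r k => (gen_gg (R := R) j).exists_coeff (inf_le_right : U ⊓ dOp (R := R) j ≤ _)
    (res _ (inf_le_left : U ⊓ dOp (R := R) j ≤ U) ((prj n R (sel s k)).app U (e r)))
  refine ⟨(Matrix.of a).det • res O₍p₎ inf_le_right (gP p j), fun x hx => ?_⟩
  rw [minVal, val_smul, val_gP, RingHom.map_det, mul_comm,
    ← show ∀ (M : Matrix (Fin p) (Fin p) (L x)) (c : L x), (c • M).det = c ^ p * M.det from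
      fun M c => by rw [Matrix.det_smul, Fintype.card_fin]]
  congr 1
  ext r k
  change _ * evalPt _ x hx (a r k) = val ((prj n R (sel s k)).app U (e r)) x hx.1
  have h := congrArg (fun t => val t x hx) (ha r k)
  change val ((prj n R (sel s k)).app U (e r)) x hx.1 = val _ x hx at h
  rw [h, val_smul]
  exact mul_comm _ _

theorem minVal_mem (s : Sub n p) (U : (X₀).Opens) (e : Fin p → Γ(mid n R, U))
    (x : ProjectiveSpectrum 𝔓) (hx : x ∈ U) : minVal s U e x hx ∈ Twist.twistAt 𝔓 (-(p : ℤ)) x := by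
  obtain ⟨j, hj⟩ := exists_mem_dOp x
  obtain ⟨S, hS⟩ := exists_min_section s U e j
  rw [← hS x ⟨hx, hj⟩]
  exact (S.1 ⟨x, ⟨hx, hj⟩⟩).2

theorem exists_minSec (s : Sub n p) (U : (X₀).Opens) (e : Fin p → Γ(mid n R, U)) :
    ∃ t : Γ(O₍p₎, U), ∀ (x : ProjectiveSpectrum 𝔓) (hx : x ∈ U), val t x hx = minVal s U e x hx := by
  refine ⟨(⟨fun x => ⟨minVal s U e x.1 x.2, minVal_mem s U e x.1 x.2⟩, fun x => ?_⟩ :
    Twist.sectN (𝒜 := 𝔓) (-(p : ℤ)) (op U)), fun x hx => rfl⟩
  obtain ⟨j, hj⟩ := exists_mem_dOp x.1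
  obtain ⟨S, hS⟩ := exists_min_section s U e j
  obtain ⟨V, hxV, ι, d, d', a, t, hnin, hdeg, hval⟩ := S.2 ⟨x.1, ⟨x.2, hj⟩⟩
  exact ⟨V, hxV, ι ≫ homOfLE inf_le_left, d, d', a, t, hnin, hdeg,
    fun y => (hS y.1 (ι.le y.2)).symm.trans (hval y)⟩

theorem minVal_update (s : Sub n p) (U : (X₀).Opens) (e : Fin p → Γ(mid n R, U)) (r : Fin p)
    (z : Γ(mid n R, U)) (x : ProjectiveSpectrum 𝔓) (hx : x ∈ U) [DecidableEq (Fin p)] :
    minVal s U (Function.update e r z) x hx =
      ((Matrix.of fun r' k => val ((prj n R (sel s k)).app U (e r')) x hx).updateRow r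
        fun k => val ((prj n R (sel s k)).app U z) x hx).det := by
  rw [minVal]
  congr 1
  ext r' k
  rcases eq_or_ne r' r with rfl | hne
  · simp [Matrix.updateRow_self]
  · simp [Matrix.updateRow_ne hne, hne]

/-- The minor, an alternating map. -/
def minAlt (s : Sub n p) (U : (X₀).Opens) : Γ(mid n R, U) [⋀^Fin p]→ₗ[Γ(X₀, U)] Γ(O₍p₎, U) where
  toFun e := (exists_minSec s U e).choose
  map_update_add' := fun e r z z' => by
    refine val_ext fun x hx => ?_
    rw [val_add, (exists_minSec s U _).choose_spec, (exists_minSec s U _).choose_spec,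
      (exists_minSec s U _).choose_spec, minVal_update, minVal_update, minVal_update,
      ← Matrix.det_updateRow_add]
    congr 2
    funext k
    rw [map_add]
    exact val_add _ _ x hx
  map_update_smul' := fun e r c z => by
    refine val_ext fun x hx => ?_
    rw [val_smul, (exists_minSec s U _).choose_spec, (exists_minSec s U _).choose_spec, minVal_update,
      minVal_update, ← Matrix.det_updateRow_smul]
    congr 2
    funext k
    rw [Scheme.Modules.Hom.app_smul]
    exact val_smul _ _ x hx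
  map_eq_zero_of_eq' := fun e r r' h hne => by
    refine val_ext fun x hx => ?_
    rw [(exists_minSec s U _).choose_spec, val_zero, minVal]
    refine Matrix.det_zero_of_row_eq hne ?_
    funext k
    simp only [Matrix.of_apply, h]

theorem val_minAlt (s : Sub n p) (U : (X₀).Opens) (e : Fin p → Γ(mid n R, U))
    (x : ProjectiveSpectrum 𝔓) (hx : x ∈ U) : val (minAlt s U e) x hx = minVal s U e x hx :=
  (exists_minSec s U e).choose_spec x hx

theorem res_minAlt (s : Sub n p) (U V : (X₀).Opens) (h : V ≤ U) (e : Fin p → Γ(mid n R, U)) :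
    res O₍p₎ h (minAlt s U e) = minAlt s V fun r => res (mid n R) h (e r) := by
  refine val_ext fun x hx => ?_
  change val (minAlt s U e) x (h hx) = _
  rw [val_minAlt, val_minAlt, minVal, minVal]
  congr 1
  ext r k
  exact congrArg (fun t => val t x hx) (app_res (prj n R (sel s k)) h (e r)).symm

variable (R) in
/-- The component of a subset. -/
def minHom (s : Sub n p) : Groth.LocFree.extPow p (mid n R) ⟶ Twist.twistProjSpace n R (-(p : ℤ)) :=
  Groth.LocFree.extLift p _ (minAlt s) (res_minAlt s)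

variable (n R p) in
/-- The constant family `O(-p)`. -/
abbrev famP : Sub n p → (CohB1.ProjSpace n R).Modules :=
  fun _ => Twist.twistProjSpace n R (-(p : ℤ))

variable (n R p) in
/-- `⋀ᵖ (O(-1)^{n+1}) → O(-p)^{C(n+1, p)}`. -/
def minMap : Groth.LocFree.extPow p (mid n R) ⟶ ⨁ famP n R p := biproduct.lift fun s => minHom R s

theorem minHom_app_minMap (s : Sub n p) (U : (X₀).Opens) (m : Γ(Groth.LocFree.extPow p (mid n R), U)) :
    (biproduct.π (famP n R p) s).app U ((minMap n R p).app U m) = (minHom R s).app U m :=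
  congr($(biproduct.lift_π (f := famP n R p) (fun t => minHom R t) s).app U m)

/-- The frame of `O(-1)^{n+1}` on a chart. -/
def bb (j : Fin (n + 1)) {V : (X₀).Opens} (hV : V ≤ dOp (R := R) j) (i : Fin (n + 1)) :
    Γ(mid n R, V) :=
  (inj n R i).app V (res _ hV (gg j))

theorem prj_bb (j : Fin (n + 1)) {V : (X₀).Opens} (hV : V ≤ dOp (R := R) j) (i k : Fin (n + 1)) :
    (prj n R k).app V (bb j hV i) =
      (if i = k then (1 : Γ(X₀, V)) else 0) • res _ hV (gg (R := R) j) := by
  change (inj n R i ≫ prj n R k).app V _ = _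
  rcases eq_or_ne i k with rfl | hik
  · rw [biproduct.ι_π_self (fam n R) i, if_pos rfl, one_smul]
    rfl
  · rw [biproduct.ι_π_ne (fam n R) hik, if_neg hik, zero_smul]
    rfl

theorem span_bb (j : Fin (n + 1)) {V : (X₀).Opens} (hV : V ≤ dOp (R := R) j) :
    Submodule.span Γ(X₀, V) (Set.range (bb j hV)) = ⊤ := by
  refine eq_top_iff.2 fun m _ => ?_
  rw [comp_mid_eq j V m]
  refine Submodule.sum_mem _ fun i _ => ?_
  obtain ⟨c, hc⟩ := (gen_gg (R := R) j).exists_coeff hV ((prj n R i).app V m)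
  rw [hc, Scheme.Modules.Hom.app_smul]
  exact Submodule.smul_mem _ _ (Submodule.subset_span ⟨i, rfl⟩)

theorem minHom_wedge_bb (j : Fin (n + 1)) {V : (X₀).Opens} (hV : V ≤ dOp (R := R) j) (s t : Sub n p) :
    (minHom R s).app V (Groth.LocFree.wedge p (mid n R) (bb j hV ∘ sel t)) =
      (if s = t then (1 : Γ(X₀, V)) else 0) • res _ hV (gP (R := R) p j) := by
  classical
  refine (Groth.LocFree.extLift_wedge p _ (minAlt s) (res_minAlt s) _ _).trans ?_
  refine val_ext fun x hx => ?_
  rw [val_minAlt, val_smul, val_gP, minVal]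
  let c : L x := lfrac 𝔓 x 1 (X_notMem (hV hx))
  have hM : (Matrix.of fun r k => val ((prj n R (sel s k)).app V ((bb j hV ∘ sel t) r)) x hx) =
      c • Matrix.of (fun r k => if sel t r = sel s k then (1 : L x) else 0) := by
    ext r k
    change val ((prj n R (sel s k)).app V (bb j hV (sel t r))) x hx = c * _
    rw [prj_bb, val_smul, mul_comm]
    congr 1
    simp only [Matrix.of_apply]
    split_ifs <;> simp
  rw [hM, Matrix.det_smul, Fintype.card_fin, mul_comm]
  congr 1
  rcases eq_or_ne s t with rfl | hst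
  · rw [if_pos rfl, map_one]
    convert Matrix.det_one (n := Fin p) (R := L x)
    ext r k
    simp [Matrix.one_apply, (sel s).injective.eq_iff]
  · rw [if_neg hst, map_zero]
    obtain ⟨i, hit, his⟩ : ∃ i, i ∈ t ∧ i ∉ s := by
      by_contra hne
      push Not at hne
      exact hst (Subtype.ext (Finset.eq_of_subset_of_card_le (fun i hi => hne i hi)
        (by rw [s.2, t.2])).symm)
    obtain ⟨r, rfl⟩ := (Set.powersetCard.mem_range_ofFinEmbEquiv_symm_iff_mem t i).2 hit
    refine Matrix.det_eq_zero_of_row_eq_zero r fun k => ?_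
    rw [Matrix.of_apply, if_neg]
    exact fun h => his ((Set.powersetCard.mem_range_ofFinEmbEquiv_symm_iff_mem s _).1 ⟨k, h.symm⟩)

variable (n R p) in
theorem isIso_minMap : IsIso (minMap n R p) := by
  classical
  refine Groth.LocFree.isIso_of_small_affine _ fun x W hx => ?_
  obtain ⟨j, hj⟩ := exists_mem_dOp (x : ProjectiveSpectrum 𝔓)
  obtain ⟨_, ⟨V, hVa, rfl⟩, hxV, hVW⟩ := (X₀).isBasis_affineOpens.exists_subset_of_mem_open
    (show x ∈ W ⊓ dOp (R := R) j from ⟨hx, hj⟩) (W ⊓ dOp (R := R) j).2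
  have hV : V ≤ dOp (R := R) j := fun y hy => (hVW hy).2
  refine ⟨V, hVa, hxV, fun y hy => (hVW hy).1, ?_⟩
  let w : Sub n p → Γ(Groth.LocFree.extPow p (mid n R), V) := fun t =>
    Groth.LocFree.wedge p (mid n R) (bb j hV ∘ sel t)
  have hw : ∀ z, ∃ c : Sub n p → Γ(X₀, V), z = ∑ t, c t • w t := fun z => by
    obtain ⟨v, rfl⟩ := (Groth.LocFree.extUnit_bijective p (mid n R) hVa).2 z
    obtain ⟨c, hc⟩ := (Submodule.mem_span_range_iff_exists_fun _).1
      ((exteriorPower.ιMulti_family_span_of_span (n := p) Γ(X₀, V) (span_bb j hV)).ge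
        (Submodule.mem_top : v ∈ (⊤ : Submodule Γ(X₀, V) _)))
    refine ⟨c, ?_⟩
    rw [← hc, map_sum]
    refine Finset.sum_congr rfl fun t _ => ?_
    rw [LinearMap.map_smul]
    rfl
  have hc : ∀ (c : Sub n p → Γ(X₀, V)) (s : Sub n p),
      (biproduct.π (famP n R p) s).app V ((minMap n R p).app V (∑ t, c t • w t)) =
        c s • res _ hV (gP (R := R) p j) := fun c s => by
    rw [minHom_app_minMap, map_sum]
    simp only [Scheme.Modules.Hom.app_smul, w, minHom_wedge_bb, smul_smul, mul_ite, mul_one, mul_zero]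
    rw [← Finset.sum_smul, Finset.sum_ite_eq Finset.univ s c, if_pos (Finset.mem_univ s)]
  refine ⟨(injective_iff_map_eq_zero _).2 fun z hz => ?_, fun y => ?_⟩
  · obtain ⟨c, rfl⟩ := hw z
    refine Finset.sum_eq_zero fun s _ => ?_
    have h := hc c s
    rw [hz, map_zero] at h
    rw [(gen_gP (R := R) j).smul_inj hV (h.symm.trans (zero_smul _ _).symm), zero_smul]
  · choose c hc' using fun s => (gen_gP (R := R) j).exists_coeff hV ((biproduct.π (famP n R p) s).app V y)
    refine ⟨∑ t, c t • w t, ?_⟩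
    have htot : ∀ m : Γ(⨁ famP n R p, V), m = ∑ s, (biproduct.ι (famP n R p) s).app V
        ((biproduct.π (famP n R p) s).app V m) := fun m => by
      have h := congr($(biproduct.total (f := famP n R p)).app V m)
      rw [app_sum] at h
      exact h.symm
    rw [htot y, htot ((minMap n R p).app V _)]
    refine Finset.sum_congr rfl fun s _ => ?_
    rw [hc, ← hc' s]

end Groth.PnHodge
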