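import Groth.Agent.PnHodge.Minor
import Groth.Agent.PnHodge.Koszul
import Groth.Agent.PnCoh.GlobalFun
import Groth.Agent.PicAux.Powers
import Groth.Agent.Duality.Represent
import Groth.Agent.Duality.SheafHomTwist
import Groth.Agent.KTheory.KvbModel

/-!
# The twisted sequences `0 → Ωᵖ⁺¹(d) → O(d-p-1)^{C(n+1,p+1)} → Ωᵖ(d) → 0`
-/

set_option autoImplicit false

universe u

open CategoryTheory CategoryTheory.Limits AlgebraicGeometry
open Groth.PicAux Groth.LocFree Groth.PnEuler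

noncomputable section

attribute [local instance] HasFiniteBiproducts.of_hasFiniteProducts

namespace Groth.PnHodge

variable (n : ℕ) (R : Type u) [CommRing R]

local notation "X₀" => CohB1.ProjSpace n R
local notation "O(" a ")" => Twist.twistProjSpace n R a
local notation "Ω₀" => Omega.sheaf (CohB1.ProjSpace.toSpec n R)

/-- `Ωᵖ(d)`. -/
abbrev omegaTw (p : ℕ) (d : ℤ) : (CohB1.ProjSpace n R).Modules :=
  (DCoh.tensorRightMod (Twist.twistProjSpace n R d)).obj
    (extPow p (Omega.sheaf (CohB1.ProjSpace.toSpec n R)))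

/-- `⋀ᵖ(O(-1)^{n+1})(d)`. -/
abbrev midTw (p : ℕ) (d : ℤ) : (CohB1.ProjSpace n R).Modules :=
  (DCoh.tensorRightMod (Twist.twistProjSpace n R d)).obj (extPow p (mid n R))

/-- `O(0) ≅ O`. -/
def zeroIso : Twist.twistProjSpace n R 0 ≅ Coh.structureModule (CohB1.ProjSpace n R) :=
  (Groth.PnCoh.nonempty_twist_zero_iso (CohB1.polyGrading n R)).some

theorem isQCoh_structure : (Coh.structureModule X₀).IsQuasicoherent :=
  (Groth.QCohMod.isQCoh_iff_of_iso (zeroIso n R)).1 (isQCoh_twist_proj 0)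

theorem iota_eps' : iota n R ≫ (eps n R ≫ (zeroIso n R).hom) = 0 := by
  rw [← Category.assoc, iota_eps, zero_comp]

theorem shortExact_euler' :
    (ShortComplex.mk (iota n R) (eps n R ≫ (zeroIso n R).hom) (iota_eps' n R)).ShortExact :=
  ShortComplex.shortExact_of_iso
    (ShortComplex.isoMk (S₁ := eulerSeq n R) (Iso.refl _) (Iso.refl _) (zeroIso n R) (by simp [eulerSeq]) (by simp [eulerSeq]))
    shortExact_eulerSeq

/-- The sequence `0 → Ωᵖ⁺¹(d) → ⋀ᵖ⁺¹(O(-1)^{n+1})(d) → Ωᵖ(d) → 0`. -/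
def twSeq (p : ℕ) (d : ℤ) : ShortComplex (CohB1.ProjSpace n R).Modules :=
  haveI := isQCoh_structure n R
  (extSeq (shortExact_euler' n R) p).map (DCoh.tensorRightMod (Twist.twistProjSpace n R d))

theorem shortExact_twSeq (p : ℕ) (d : ℤ) : (twSeq n R p d).ShortExact :=
  haveI := isQCoh_structure n R
  shortExact_tensorRightMod (Groth.PnCoh.isInvertible_twist n R d)
    (shortExact_extSeq (shortExact_euler' n R) p)

theorem isQCoh_omegaTw (p : ℕ) (d : ℤ) : (omegaTw n R p d).IsQuasicoherent :=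
  haveI := isQCoh_extPow p Ω₀
  Groth.QCohMod.isQCoh_tensorMod (M := extPow p Ω₀) (N := O(d))

theorem isZero_omegaTw {p : ℕ} (hp : n < p) (d : ℤ) : IsZero (omegaTw n R p d) := by
  refine Functor.map_isZero _ (Groth.KTheory.KvbModel.isZero_of_rank_zero ?_)
  have h := isFinLocFreeOfRank_extPow (isFinLocFreeOfRank_omega (n := n) (R := R)) p
  rwa [Nat.choose_eq_zero_of_lt hp] at h

/-- `Ω⁰(d) ≅ O(d)`. -/
theorem nonempty_omegaTw_zero (d : ℤ) :
    Nonempty (omegaTw n R 0 d ≅ Twist.twistProjSpace n R d) := by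
  obtain ⟨e⟩ := Groth.KTheory.LambdaVb.nonempty_extPow_zero Ω₀
  obtain ⟨l, -⟩ := exists_leftUnitor O(d)
  exact ⟨(DCoh.tensorRightMod O(d)).mapIso e ≪≫ l⟩

/-- `Ωᵖ(0) ≅ Ωᵖ`. -/
theorem nonempty_omegaTw_twist_zero (p : ℕ) :
    Nonempty (omegaTw n R p 0 ≅ extPow p Ω₀) :=
  ⟨PicGrp.tensorModIso (Iso.refl _) (zeroIso n R) ≪≫ SecTwist.unitorR _⟩

theorem nonempty_equiv_of_decomp {A : Type u} [CommRing A] {X : Scheme.{u}}
    [X.Over (Spec (CommRingCat.of A))] (G : X.Modules ⥤ X.Modules) [G.Additive] {S : Type} [Fintype S]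
    {E N : X.Modules} (f : S → X.Modules) (m : E ⟶ ⨁ f) [IsIso m] (e : ∀ s, G.obj (f s) ≅ N) (q : ℕ) :
    Nonempty (Coh.HH X (G.obj E) q ≃ₗ[A] (S → Coh.HH X N q)) := by
  classical
  let π (s : S) : G.obj E ⟶ N := G.map (m ≫ biproduct.π f s) ≫ (e s).hom
  let ι (s : S) : N ⟶ G.obj E := (e s).inv ≫ G.map (biproduct.ι f s ≫ inv m)
  have htot : ∑ s, π s ≫ ι s = 𝟙 _ := by
    simp only [π, ι, Category.assoc, Iso.hom_inv_id_assoc, ← G.map_comp]
    rw [← G.map_sum, ← Preadditive.comp_sum]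
    simp only [← Category.assoc]
    rw [← Preadditive.sum_comp, biproduct.total (f := f), Category.id_comp, IsIso.hom_inv_id, G.map_id]
  have hιπ : ∀ s, ι s ≫ π s = 𝟙 _ := fun s => by
    simp only [π, ι, Category.assoc, ← G.map_comp_assoc, IsIso.inv_hom_id_assoc]
    rw [biproduct.ι_π_self f s, G.map_id, Category.id_comp, Iso.inv_hom_id]
  have hιπ' : ∀ s t, s ≠ t → ι s ≫ π t = 0 := fun s t h => by
    simp only [π, ι, Category.assoc, ← G.map_comp_assoc, IsIso.inv_hom_id_assoc]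
    rw [biproduct.ι_π_ne f h, Functor.map_zero, zero_comp, comp_zero]
  refine ⟨LinearEquiv.ofLinearMap (LinearMap.pi fun s => EulerDeg.hMap A (π s) q)
    (∑ s, (EulerDeg.hMap A (ι s) q).comp (LinearMap.proj s)) ?_ ?_⟩
  · refine LinearMap.pi_ext' fun s => LinearMap.ext fun y => funext fun t => ?_
    simp only [LinearMap.comp_apply, LinearMap.pi_apply, LinearMap.sum_apply, LinearMap.proj_apply,
      LinearMap.id_apply, map_sum, LinearMap.coe_single]
    rw [Finset.sum_eq_single s]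
    · rw [Pi.single_eq_same, ← LinearMap.comp_apply, ← EulerDeg.hMap_comp]
      rcases eq_or_ne s t with rfl | h
      · rw [hιπ, EulerDeg.hMap_id, LinearMap.id_apply, Pi.single_eq_same]
      · rw [hιπ' s t h, Groth.Duality.hMap_zero, LinearMap.zero_apply, Pi.single_eq_of_ne (Ne.symm h)]
    · intro b _ hb
      rw [Pi.single_eq_of_ne hb, map_zero, map_zero]
    · simp
  · refine LinearMap.ext fun x => ?_
    simp only [LinearMap.comp_apply, LinearMap.sum_apply, LinearMap.proj_apply, LinearMap.pi_apply]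
    simp only [← LinearMap.comp_apply, ← EulerDeg.hMap_comp]
    rw [← LinearMap.sum_apply, ← Groth.Duality.hMap_sum, htot, EulerDeg.hMap_id]

theorem nonempty_twIso (a d c : ℤ) (h : a + d = c) :
    Nonempty ((DCoh.tensorRightMod O(d)).obj O(a) ≅ Twist.twistProjSpace n R c) := by
  obtain ⟨e₀⟩ := Groth.Duality.Pn.nonempty_twist_tensor n R a d
  exact ⟨e₀ ≪≫ eqToIso (congrArg (Twist.twistProjSpace n R) h)⟩

/-- The cohomology of the middle terms. -/
theorem nonempty_midTw_equiv (p : ℕ) (d : ℤ) (q : ℕ) :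
    Nonempty (Coh.HH X₀ (midTw n R p d) q ≃ₗ[R] (Sub n p → Coh.HH X₀ O(d - p) q)) := by
  haveI := isIso_minMap n R p
  obtain ⟨e⟩ := nonempty_twIso n R (-(p : ℤ)) d (d - p) (by ring)
  exact nonempty_equiv_of_decomp (DCoh.tensorRightMod O(d)) (famP n R p) (minMap n R p) (fun _ => e) q

end Groth.PnHodge
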